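import Groth.Agent.S2063
import Groth.Agent.S2768
import Groth.Agent.Lib.TowerSmooth5.Basic
import Groth.Agent.Lib.FibDim14.Basic
import Groth.Agent.Lib.DimF18.Affine
import Mathlib.RingTheory.Smooth.StandardSmoothOfFree
import Mathlib.RingTheory.Smooth.StandardSmoothCotangent
import Mathlib.RingTheory.LocalRing.Module

/-!
# Etale coordinates: differentials of `n` functions
-/

set_option autoImplicit false

universe u

open TensorProduct KaehlerDifferential IsLocalRing CategoryTheory AlgebraicGeometry

set_option backward.isDefEq.respectTransparency.types false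

namespace Groth.Agent.EtaleCoord5

/-- `T ⊗ Ω[R[σ]/R] → Ω[T/R]` is bijective iff the differentials of the variables form a basis. -/
theorem mapBaseChange_bijective_iff (R : Type u) [CommRing R] {σ : Type} [Finite σ] (T : Type u) [CommRing T]
    [Algebra R T] [Algebra (MvPolynomial σ R) T] [IsScalarTower R (MvPolynomial σ R) T] :
    Function.Bijective (mapBaseChange R (MvPolynomial σ R) T) ↔
      LinearIndependent T (fun i : σ => D R T (algebraMap (MvPolynomial σ R) T (MvPolynomial.X i))) ∧
        Submodule.span T (Set.range fun i : σ => D R T (algebraMap (MvPolynomial σ R) T (MvPolynomial.X i))) = ⊤ := by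
  let b := (mvPolynomialBasis R σ).baseChange T
  have hb0 : ∀ i, mvPolynomialBasis R σ i = D R (MvPolynomial σ R) (MvPolynomial.X i) := fun i =>
    (mvPolynomialBasis R σ).repr.injective (by simp)
  have hv : ∀ i, mapBaseChange R (MvPolynomial σ R) T (b i) =
      D R T (algebraMap (MvPolynomial σ R) T (MvPolynomial.X i)) := fun i => by
    simp [b, hb0]
  constructor
  · intro h
    let e := LinearEquiv.ofBijective (mapBaseChange R (MvPolynomial σ R) T) h
    have he : ⇑(b.map e) = fun i : σ => D R T (algebraMap (MvPolynomial σ R) T (MvPolynomial.X i)) := by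
      funext i; exact hv i
    rw [← he]
    exact ⟨(b.map e).linearIndependent, (b.map e).span_eq⟩
  · rintro ⟨hli, hsp⟩
    let c := Module.Basis.mk hli hsp.ge
    have he : mapBaseChange R (MvPolynomial σ R) T = (b.equiv c (Equiv.refl σ)).toLinearMap := by
      refine b.ext fun i => ?_
      rw [hv, LinearEquiv.coe_coe, Module.Basis.equiv_apply]
      exact (Module.Basis.mk_apply hli hsp.ge i).symm
    rw [he]
    exact LinearEquiv.bijective _

section Local

variable (k T : Type u) [Field k] [CommRing T] [IsLocalRing T] [Algebra k T] [Algebra.EssFiniteType k T]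

theorem span_iff_residue (s : Set Ω[T⁄k]) :
    Submodule.span T s = ⊤ ↔
      Submodule.span (ResidueField T) ((fun v => (1 : ResidueField T) ⊗ₜ[T] v) '' s) = ⊤ := by
  rw [← map_tensorProduct_mk_eq_top (N := Submodule.span T s), Submodule.map_span,
    ← Submodule.restrictScalars_eq_top_iff T (ResidueField T)
      ((ResidueField T) ⊗[T] Ω[T⁄k]), Submodule.restrictScalars_span T (ResidueField T) IsLocalRing.residue_surjective]
  rfl

theorem finrank_le_of_span {n : ℕ} (v : Fin n → Ω[T⁄k]) (h : Submodule.span T (Set.range v) = ⊤) :
    Module.finrank (ResidueField T) (ResidueField T ⊗[T] Ω[T⁄k]) ≤ n := by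
  rw [span_iff_residue k T, ← Set.range_comp] at h
  refine le_trans (le_of_eq ?_) ((finrank_range_le_card (R := ResidueField T) ((fun w => (1 : ResidueField T) ⊗ₜ[T] w) ∘ v)).trans
    (le_of_eq (Fintype.card_fin n)))
  rw [Set.finrank, h, finrank_top]

end Local

theorem linearIndependent_of_span {R M : Type u} [CommRing R] [AddCommGroup M] [Module R M] {n : ℕ}
    (b : Module.Basis (Fin n) R M) (v : Fin n → M) (h : Submodule.span R (Set.range v) = ⊤) :
    LinearIndependent R v := by
  have hs : Function.Surjective (b.equivFun.toLinearMap ∘ₗ Fintype.linearCombination R v) := by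
    refine b.equivFun.surjective.comp ?_
    rw [← LinearMap.range_eq_top, Fintype.range_linearCombination, h]
  have hi := OrzechProperty.injective_of_surjective_endomorphism _ hs
  rw [Fintype.linearIndependent_iff]
  intro g hg i
  have : g = 0 := hi (by simp [Fintype.linearCombination_apply, hg])
  rw [this]; rfl

section Point

variable (k A : Type u) [Field k] [CommRing A] [Algebra k A] [Algebra.FiniteType k A]

theorem fibreDimAt_eq_localDim (p : PrimeSpectrum A) :
    FlatMor.fibreDimAt (DimF18.specTo k A) p = FlatMor.localDim (PrimeSpectrum A) p := by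
  rw [FibDim14.fibreDimAt_eq_localDim_preimage]
  haveI : Subsingleton (Spec (CommRingCat.of k)) := inferInstanceAs (Subsingleton (PrimeSpectrum k))
  have ho : IsOpen ((DimF18.specTo k A) ⁻¹' {(DimF18.specTo k A) p}) := by
    convert isOpen_univ
    exact Set.eq_univ_of_forall fun z => Subsingleton.elim _ _
  exact FibDim14.localDim_of_isOpenEmbedding (ho.isOpenEmbedding_subtypeVal) _

theorem nonempty_basis_of_chart (B T : Type u) [CommRing B] [CommRing T] [Nontrivial T] [Algebra k B]
    [Algebra k T] [Algebra B T] [IsScalarTower k B T] [Algebra.FormallyEtale B T]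
    (n : ℕ) [Algebra.IsStandardSmoothOfRelativeDimension n k B] :
    Nonempty (Module.Basis (Fin n) T Ω[T⁄k]) := by
  haveI : Algebra.IsStandardSmooth k B := Algebra.IsStandardSmoothOfRelativeDimension.isStandardSmooth n
  haveI : Nontrivial B := (algebraMap B T).domain_nontrivial
  exact ⟨((Module.finBasisOfFinrankEq B Ω[B⁄k] (Module.finrank_eq_of_rank_eq
      (Algebra.IsStandardSmoothOfRelativeDimension.rank_kaehlerDifferential n))).baseChange T).map
      (tensorKaehlerEquivOfFormallyEtale k B T)⟩

theorem localDim_of_chart (B : Type u) [CommRing B] [Algebra k B] [Algebra A B] [IsScalarTower k A B] (f : A)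
    [IsLocalization.Away f B] (n : ℕ) [Algebra.IsStandardSmoothOfRelativeDimension n k B]
    (p : PrimeSpectrum A) (hf : f ∉ p.asIdeal) :
    FlatMor.localDim (PrimeSpectrum A) p = (n : WithBot ℕ∞) := by
  let ι' : Spec (CommRingCat.of B) ⟶ Spec (CommRingCat.of A) := Spec.map (CommRingCat.ofHom (algebraMap A B))
  haveI : IsOpenImmersion ι' := IsOpenImmersion.of_isLocalization f
  haveI : Algebra.FiniteType A B := IsLocalization.finiteType_of_monoid_fg (Submonoid.powers f) B
  haveI : Algebra.FiniteType k B := Algebra.FiniteType.trans (S := A) inferInstance inferInstance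
  haveI : SmoothOfRelativeDimension n (DimF18.specTo k B) :=
    (HasRingHomProperty.Spec_iff (P := @SmoothOfRelativeDimension n)).2
      (RingHom.locally_of RingHom.isStandardSmoothOfRelativeDimension_respectsIso _
        ((RingHom.isStandardSmoothOfRelativeDimension_algebraMap n).2 inferInstance))
  have hcomp : ι' ≫ DimF18.specTo k A = DimF18.specTo k B := by
    rw [← Spec.map_comp, ← CommRingCat.ofHom_comp, ← IsScalarTower.algebraMap_eq]
  obtain ⟨t, ht⟩ : ∃ t, ι' t = p := by
    have := PrimeSpectrum.localization_away_comap_range B f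
    exact this.ge hf
  rw [← fibreDimAt_eq_localDim k A, ← ht, ← FibDim14.fibreDimAt_etale_comp ι' (DimF18.specTo k A) t]
  simp only [hcomp]
  exact Groth.Agent.S2768.result n _ t

/-- At a smooth point the differentials are free of rank the local dimension. -/
theorem exists_basis (p : Ideal A) [p.IsPrime] [Algebra.IsSmoothAt k p] :
    ∃ n : ℕ, FlatMor.localDim (PrimeSpectrum A) ⟨p, inferInstance⟩ = (n : WithBot ℕ∞) ∧
      Nonempty (Module.Basis (Fin n) (Localization.AtPrime p) Ω[Localization.AtPrime p⁄k]) := by
  haveI : Algebra.FinitePresentation k A := Algebra.FinitePresentation.of_finiteType.1 inferInstance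
  obtain ⟨f, hf, hss⟩ := Algebra.IsSmoothAt.exists_notMem_isStandardSmooth k p
  obtain ⟨ι, σ, _, _, ⟨P⟩⟩ := hss.out
  haveI : Algebra.IsStandardSmoothOfRelativeDimension P.dimension k (Localization.Away f) :=
    ⟨⟨ι, σ, ‹_›, ‹_›, P, rfl⟩⟩
  have hle : Submonoid.powers f ≤ p.primeCompl := Submonoid.powers_le.2 hf
  letI : Algebra (Localization.Away f) (Localization.AtPrime p) :=
    IsLocalization.localizationAlgebraOfSubmonoidLe (Localization.Away f) (Localization.AtPrime p)
      (Submonoid.powers f) p.primeCompl hle
  haveI : IsScalarTower A (Localization.Away f) (Localization.AtPrime p) :=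
    IsLocalization.localization_isScalarTower_of_submonoid_le _ _ _ _ hle
  haveI : IsLocalization (p.primeCompl.map (algebraMap A (Localization.Away f))) (Localization.AtPrime p) :=
    IsLocalization.isLocalization_of_submonoid_le (Localization.Away f) (Localization.AtPrime p)
      (Submonoid.powers f) p.primeCompl hle
  haveI : IsScalarTower k (Localization.Away f) (Localization.AtPrime p) :=
    IsScalarTower.of_algebraMap_eq fun x => by
      rw [IsScalarTower.algebraMap_apply k A (Localization.Away f), ← IsScalarTower.algebraMap_apply A,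
        ← IsScalarTower.algebraMap_apply k A]
  haveI : Algebra.FormallyEtale (Localization.Away f) (Localization.AtPrime p) :=
    .of_isLocalization (p.primeCompl.map (algebraMap A (Localization.Away f)))
  exact ⟨P.dimension, localDim_of_chart k A (Localization.Away f) f P.dimension ⟨p, inferInstance⟩ hf,
    nonempty_basis_of_chart k (Localization.Away f) (Localization.AtPrime p) P.dimension⟩

theorem isSmoothAt_of_span (n : ℕ) (p : Ideal A) [p.IsPrime]
    (hn : FlatMor.localDim (PrimeSpectrum A) ⟨p, inferInstance⟩ = (n : WithBot ℕ∞))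
    (v : Fin n → Ω[Localization.AtPrime p⁄k]) (h : Submodule.span (Localization.AtPrime p) (Set.range v) = ⊤) :
    Algebra.IsSmoothAt k p := by
  haveI : Algebra.EssFiniteType k (Localization.AtPrime p) := Algebra.EssFiniteType.comp k A _
  rw [Groth.Agent.S2063.result, SmoothRank1.finrank_localization p, hn]
  exact_mod_cast finrank_le_of_span k (Localization.AtPrime p) v h

/-- Etale coordinates at a point: generation of differentials by `n` = local dimension many. -/
theorem isEtaleAt_iff_span (n : ℕ) [Algebra (MvPolynomial (Fin n) k) A] [IsScalarTower k (MvPolynomial (Fin n) k) A]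
    (p : Ideal A) [p.IsPrime]
    (hn : FlatMor.localDim (PrimeSpectrum A) ⟨p, inferInstance⟩ = (n : WithBot ℕ∞)) :
    Algebra.IsEtaleAt (MvPolynomial (Fin n) k) p ↔
      Submodule.span (Localization.AtPrime p)
        (Set.range fun i : Fin n => D k (Localization.AtPrime p)
          (algebraMap A (Localization.AtPrime p) (algebraMap (MvPolynomial (Fin n) k) A (MvPolynomial.X i)))) = ⊤ := by
  simp only [← IsScalarTower.algebraMap_apply (MvPolynomial (Fin n) k) A (Localization.AtPrime p)]
  constructor
  · intro h
    haveI : Algebra.FormallyEtale (MvPolynomial (Fin n) k) (Localization.AtPrime p) := h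
    haveI : Algebra.FormallySmooth k (Localization.AtPrime p) :=
      Algebra.FormallySmooth.comp k (MvPolynomial (Fin n) k) (Localization.AtPrime p)
    exact ((mapBaseChange_bijective_iff k (Localization.AtPrime p)).1 ((TowerSmooth5.formallyEtale_iff k _ _).1 h)).2
  · intro h
    haveI hs := isSmoothAt_of_span k A n p hn _ h
    haveI : Algebra.FormallySmooth k (Localization.AtPrime p) := hs
    obtain ⟨m, hm, ⟨b⟩⟩ := exists_basis k A p
    obtain rfl : n = m := by exact_mod_cast hn.symm.trans hm
    exact (TowerSmooth5.formallyEtale_iff k _ _).2 ((mapBaseChange_bijective_iff k (Localization.AtPrime p)).2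
      ⟨linearIndependent_of_span b _ h, h⟩)

end Point

end Groth.Agent.EtaleCoord5
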