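import Groth.Agent.Lib.EtaleCoord5.Basic
import Groth.Agent.Lib.GenSmooth5.Basic
import Mathlib.LinearAlgebra.Dimension.Localization

/-!
# Differentials of a finitely generated field extension and separability
-/

set_option autoImplicit false

universe u

open TensorProduct KaehlerDifferential IsLocalRing

set_option backward.isDefEq.respectTransparency.types false

namespace Groth.Agent.EtaleCoord5

variable (k D : Type u) [Field k] [CommRing D] [IsDomain D] [Algebra k D]
  (K : Type u) [Field K] [Algebra D K] [IsFractionRing D K] [Algebra k K] [IsScalarTower k D K]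

theorem finrank_kaehler_fractionRing : Module.finrank K Ω[K⁄k] = Module.finrank D Ω[D⁄k] := by
  haveI : Algebra.FormallyEtale D K := .of_isLocalization (nonZeroDivisors D)
  haveI : FaithfulSMul D K := (faithfulSMul_iff_algebraMap_injective D K).2 (IsFractionRing.injective D K)
  rw [← (tensorKaehlerEquivOfFormallyEtale k D K).finrank_eq]
  exact (TensorProduct.isBaseChange D Ω[D⁄k] K).finrank_eq

theorem localDim_bot [Algebra.FiniteType k D] :
    FlatMor.localDim (PrimeSpectrum D) ⟨⊥, Ideal.isPrime_bot⟩ = (VarDim.tdeg k D : WithBot ℕ∞) := by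
  haveI : (⊥ : Ideal D).IsPrime := Ideal.isPrime_bot
  have h1 : VarDim.tdeg k (D ⧸ (⊥ : Ideal D)) = VarDim.tdeg k D := by
    rw [← @Nat.cast_inj Cardinal, ← VarDim.trdeg_eq_tdeg k (D ⧸ (⊥ : Ideal D)), ← VarDim.trdeg_eq_tdeg k D]
    exact AlgEquiv.trdeg_eq (AlgEquiv.quotientBot k D)
  rw [DimF18.localDim_spec k D ⟨⊥, inferInstance⟩, IsLocalization.AtPrime.ringKrullDim_eq_height (⊥ : Ideal D),
    Ideal.height_bot, h1]
  simp

theorem geomReduced_iff_finrank_le [Algebra.FiniteType k D] :
    (Algebra.IsGeometricallyReduced k K ↔ Module.finrank K Ω[K⁄k] ≤ VarDim.tdeg k D) ∧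
      (Algebra.IsGeometricallyReduced k K → Module.finrank K Ω[K⁄k] = VarDim.tdeg k D) := by
  let q : Ideal D := ⊥
  haveI : q.IsPrime := Ideal.isPrime_bot
  have hq : q ∈ minimalPrimes D := ⟨⟨inferInstance, bot_le⟩, fun _ _ _ => bot_le⟩
  haveI : IsFractionRing D q.ResidueField := by
    haveI : IsFractionRing (D ⧸ q) q.ResidueField := inferInstance
    exact IsFractionRing.of_ringEquiv_left (S := D ⧸ q) (RingEquiv.quotientBot D).symm (fun x => rfl)
  have hρ : Module.finrank q.ResidueField (q.ResidueField ⊗[D] Ω[D⁄k]) = Module.finrank K Ω[K⁄k] := by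
    haveI : FaithfulSMul D q.ResidueField :=
      (faithfulSMul_iff_algebraMap_injective D q.ResidueField).2 (IsFractionRing.injective D q.ResidueField)
    rw [finrank_kaehler_fractionRing k D K]
    exact (TensorProduct.isBaseChange D Ω[D⁄k] q.ResidueField).finrank_eq
  haveI : IsLocalization q.primeCompl K := by
    have : q.primeCompl = nonZeroDivisors D := Submonoid.ext fun x => by simp [q, Ideal.primeCompl]
    rw [this]; infer_instance
  let e : Localization.AtPrime q ≃ₐ[k] K :=
    (IsLocalization.algEquiv q.primeCompl (Localization.AtPrime q) K).restrictScalars k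
  have hgr : Algebra.IsGeometricallyReduced k K ↔ Algebra.IsSmoothAt k q := by
    rw [GenSmooth5.isSmoothAt_minimal_iff q hq]
    exact ⟨fun h => Algebra.IsGeometricallyReduced.of_injective e.toAlgHom e.injective,
      fun h => Algebra.IsGeometricallyReduced.of_injective e.symm.toAlgHom e.symm.injective⟩
  refine ⟨?_, fun h => ?_⟩
  · rw [hgr, Groth.Agent.S2063.result, hρ, localDim_bot k D]
    exact ⟨fun h => by exact_mod_cast h, fun h => by exact_mod_cast h⟩
  · haveI := hgr.1 h
    obtain ⟨m, hm, ⟨b⟩⟩ := exists_basis k D q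
    rw [localDim_bot k D, Nat.cast_inj] at hm
    rw [hm, finrank_kaehler_fractionRing k D K, ← finrank_kaehler_fractionRing k D (FractionRing D)]
    haveI : Algebra.FormallyEtale D (Localization.AtPrime q) := .of_isLocalization q.primeCompl
    rw [finrank_kaehler_fractionRing k D (FractionRing D)]
    have hb := Module.finrank_eq_card_basis b
    rw [Fintype.card_fin] at hb
    haveI : FaithfulSMul D (Localization.AtPrime q) := (faithfulSMul_iff_algebraMap_injective D _).2
      (IsLocalization.injective (Localization.AtPrime q) (q.primeCompl_le_nonZeroDivisors))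
    rw [← (tensorKaehlerEquivOfFormallyEtale k D (Localization.AtPrime q)).finrank_eq,
      (TensorProduct.isBaseChange D Ω[D⁄k] (Localization.AtPrime q)).finrank_eq] at hb
    exact hb

end Groth.Agent.EtaleCoord5
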