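import Groth.Agent.Lib.EtaleCoord5.Basic
import Mathlib.RingTheory.Ideal.Cotangent

/-!
# Coordinates split into parameters and residual coordinates
-/

set_option autoImplicit false

universe u

open TensorProduct KaehlerDifferential IsLocalRing

namespace Groth.Agent.EtaleCoord5

variable (k T : Type u) [Field k] [CommRing T] [IsLocalRing T] [Algebra k T]

theorem exists_delta : ∃ δ : CotangentSpace T →ₗ[ResidueField T] ResidueField T ⊗[T] Ω[T⁄k],
    Function.Exact δ (mapBaseChange k T (ResidueField T)) ∧
      ∀ x : maximalIdeal T, δ ((maximalIdeal T).toCotangent x) = 1 ⊗ₜ D k T x.1 := by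
  have hres : Function.Surjective (algebraMap T (ResidueField T)) := residue_surjective
  have key : ∀ I : Ideal T, RingHom.ker (algebraMap T (ResidueField T)) = I →
      ∃ δ : I.Cotangent →ₗ[T] ResidueField T ⊗[T] Ω[T⁄k],
        Function.Exact δ (mapBaseChange k T (ResidueField T)) ∧ ∀ x : I, δ (I.toCotangent x) = 1 ⊗ₜ D k T x.1 := by
    rintro I rfl
    exact ⟨_, exact_kerCotangentToTensor_mapBaseChange k T _ hres, fun x => kerCotangentToTensor_toCotangent k T _ x⟩
  obtain ⟨δ, h1, h2⟩ := key _ (IsLocalRing.ker_residue (R := T))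
  exact ⟨LinearMap.extendScalarsOfSurjective hres δ, h1, h2⟩

theorem mapBaseChange_one_D (x : T) :
    mapBaseChange k T (ResidueField T) (1 ⊗ₜ D k T x) = D k (ResidueField T) (residue T x) := by
  rw [mapBaseChange_tmul, one_smul, map_D]
  rfl

variable [IsNoetherianRing T] {ι : Type*} (g : ι → T) (S : Set ι)

/-- Parameters and residual coordinates generate the differentials. -/
theorem span_of_adapted [Algebra.EssFiniteType k T] (hS : Ideal.span (g '' S) = maximalIdeal T)
    (hres : Submodule.span (ResidueField T) ((fun i => D k (ResidueField T) (residue T (g i))) '' Sᶜ) = ⊤) :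
    Submodule.span T (Set.range fun i => D k T (g i)) = ⊤ := by
  rw [span_iff_residue k T, ← Set.range_comp]
  set w := (fun v => (1 : ResidueField T) ⊗ₜ[T] v) ∘ fun i => D k T (g i) with hw
  obtain ⟨δ, hex, hδ⟩ := exists_delta k T
  set π := mapBaseChange k T (ResidueField T)
  set W := Submodule.span (ResidueField T) (Set.range w)
  have hker : LinearMap.range δ ≤ W := by
    let s : Set (maximalIdeal T) := {x | ∃ i ∈ S, x.1 = g i}
    have hs : Submodule.span T s = ⊤ := by
      apply Submodule.map_injective_of_injective (maximalIdeal T).injective_subtype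
      rw [Submodule.map_span, Submodule.map_top, Submodule.range_subtype]
      convert hS
      ext y
      constructor
      · rintro ⟨x, ⟨i, hi, hx⟩, rfl⟩
        exact ⟨i, hi, hx.symm⟩
      · rintro ⟨i, hi, rfl⟩
        exact ⟨⟨g i, hS ▸ Ideal.subset_span ⟨i, hi, rfl⟩⟩, ⟨i, hi, rfl⟩, rfl⟩
    rw [LinearMap.range_eq_map, ← (CotangentSpace.span_image_eq_top_iff).2 hs, Submodule.map_span,
      Submodule.span_le]
    rintro _ ⟨_, ⟨x, ⟨i, hi, hx⟩, rfl⟩, rfl⟩
    rw [hδ, hx]
    exact Submodule.subset_span ⟨i, rfl⟩
  have hmap : W.map π = ⊤ := by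
    rw [eq_top_iff, ← hres, Submodule.span_le]
    rintro _ ⟨i, -, rfl⟩
    exact ⟨w i, Submodule.subset_span ⟨i, rfl⟩, mapBaseChange_one_D k T (g i)⟩
  rw [eq_top_iff]
  rintro z -
  obtain ⟨y, hy, hyz⟩ := hmap.ge (Submodule.mem_top : π z ∈ ⊤)
  have : z - y ∈ W := hker ((hex _).1 (by rw [map_sub, hyz, sub_self]))
  simpa using W.add_mem this hy

/-- A basis of differentials adapted to parameters in the maximal ideal. -/
theorem adapted_of_span [Algebra.EssFiniteType k T] [Fintype ι] [Fintype S] (hg : ∀ i ∈ S, g i ∈ maximalIdeal T)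
    (hsp : Submodule.span T (Set.range fun i => D k T (g i)) = ⊤)
    (hn : Module.finrank (ResidueField T) (ResidueField T ⊗[T] Ω[T⁄k]) = Fintype.card ι)
    (hr : Module.finrank (ResidueField T) (CotangentSpace T) = Fintype.card S) :
    Ideal.span (g '' S) = maximalIdeal T ∧
      Submodule.span (ResidueField T) ((fun i => D k (ResidueField T) (residue T (g i))) '' Sᶜ) = ⊤ := by
  rw [span_iff_residue k T, ← Set.range_comp] at hsp
  set w := (fun v => (1 : ResidueField T) ⊗ₜ[T] v) ∘ fun i => D k T (g i) with hw
  obtain ⟨δ, hex, hδ⟩ := exists_delta k T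
  set π := mapBaseChange k T (ResidueField T)
  have hli : LinearIndependent (ResidueField T) w :=
    linearIndependent_of_top_le_span_of_card_eq_finrank hsp.ge hn.symm
  constructor
  · let c : S → maximalIdeal T := fun i => ⟨g i, hg i i.2⟩
    have hc : LinearIndependent (ResidueField T) fun i : S => (maximalIdeal T).toCotangent (c i) := by
      refine LinearIndependent.of_comp δ ?_
      have : (⇑δ ∘ fun i : S => (maximalIdeal T).toCotangent (c i)) = w ∘ Subtype.val :=
        funext fun i => hδ (c i)
      rw [this]
      exact hli.comp _ Subtype.val_injective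
    have htop := hc.span_eq_top_of_card_eq_finrank' hr.symm
    rw [Set.range_comp' (f := c), CotangentSpace.span_image_eq_top_iff] at htop
    have h2 := congrArg (Submodule.map (maximalIdeal T).subtype) htop
    rw [Submodule.map_span, Submodule.map_top, Submodule.range_subtype, ← Set.range_comp] at h2
    refine Eq.trans ?_ h2
    rw [Set.image_eq_range]
    rfl
  · have hπ : Function.Surjective π := mapBaseChange_surjective k T _ residue_surjective
    rw [eq_top_iff, ← LinearMap.range_eq_top.2 hπ, LinearMap.range_eq_map, ← hsp, Submodule.map_span,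
      Submodule.span_le]
    rintro _ ⟨_, ⟨i, rfl⟩, rfl⟩
    by_cases hi : i ∈ S
    · have : π (w i) = 0 := by
        rw [hw, Function.comp_apply, mapBaseChange_one_D, (IsLocalRing.residue_eq_zero_iff _).2 (hg i hi), map_zero]
      rw [this]; exact Submodule.zero_mem _
    · exact Submodule.subset_span ⟨i, hi, (mapBaseChange_one_D k T (g i)).symm⟩

end Groth.Agent.EtaleCoord5
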