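import Groth.Agent.Lib.EtaleCoord5.Residue
import Groth.Agent.Lib.EtaleCoord5.FieldRank
import Groth.Agent.Lib.CAlgLow.SmoothIffReg

/-!
# Pointwise data at a prime of a finite type algebra
-/

set_option autoImplicit false

universe u

open TensorProduct KaehlerDifferential IsLocalRing

set_option backward.isDefEq.respectTransparency.types false

namespace Groth.Agent.EtaleCoord5

variable (k A : Type u) [Field k] [CommRing A] [Algebra k A] [Algebra.FiniteType k A] (p : Ideal A) [p.IsPrime]

theorem tdeg_add_eq {n r : ℕ} (hn : FlatMor.localDim (PrimeSpectrum A) ⟨p, inferInstance⟩ = (n : WithBot ℕ∞))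
    (hr : ringKrullDim (Localization.AtPrime p) = (r : WithBot ℕ∞)) : r + VarDim.tdeg k (A ⧸ p) = n := by
  rw [DimF18.localDim_spec k A ⟨p, inferInstance⟩, hr] at hn
  exact_mod_cast hn

theorem finrank_cotangent [h : IsRegularLocalRing (Localization.AtPrime p)]
    {r : ℕ} (hr : ringKrullDim (Localization.AtPrime p) = (r : WithBot ℕ∞)) :
    Module.finrank (ResidueField (Localization.AtPrime p)) (CotangentSpace (Localization.AtPrime p)) = r := by
  have := (IsRegularLocalRing.iff_finrank_cotangentSpace _).1 h
  rw [hr] at this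
  exact_mod_cast this

theorem card_setOf_lt {n r : ℕ} (h : r ≤ n) : Fintype.card {i : Fin n | (i : ℕ) < r} = r :=
  ((Fintype.card_congr (α := {i : Fin n | (i : ℕ) < r}) (β := Fin r)
    ⟨fun i => ⟨i.1.1, i.2⟩, fun j => ⟨⟨j, by omega⟩, j.2⟩, fun i => rfl, fun j => rfl⟩)).trans (Fintype.card_fin r)

theorem compl_setOf_lt (n r : ℕ) : ({i : Fin n | (i : ℕ) < r} : Set (Fin n))ᶜ = {i : Fin n | r ≤ (i : ℕ)} := by
  ext; simp

/-- Etale coordinates adapted to the prime. -/
theorem isEtaleAt_iff_adapted (n r : ℕ) [Algebra (MvPolynomial (Fin n) k) A]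
    [IsScalarTower k (MvPolynomial (Fin n) k) A]
    (hn : FlatMor.localDim (PrimeSpectrum A) ⟨p, inferInstance⟩ = (n : WithBot ℕ∞))
    (hr : ringKrullDim (Localization.AtPrime p) = (r : WithBot ℕ∞))
    (hg : ∀ i : Fin n, (i : ℕ) < r → algebraMap (MvPolynomial (Fin n) k) A (MvPolynomial.X i) ∈ p) :
    Algebra.IsEtaleAt (MvPolynomial (Fin n) k) p ↔
      Ideal.span ((fun i : Fin n =>
          algebraMap A (Localization.AtPrime p) (algebraMap (MvPolynomial (Fin n) k) A (MvPolynomial.X i))) ''
            {i : Fin n | (i : ℕ) < r}) = IsLocalRing.maximalIdeal (Localization.AtPrime p) ∧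
        Submodule.span p.ResidueField ((fun i : Fin n =>
          KaehlerDifferential.D k p.ResidueField
            (IsLocalRing.residue (Localization.AtPrime p)
              (algebraMap A (Localization.AtPrime p) (algebraMap (MvPolynomial (Fin n) k) A (MvPolynomial.X i))))) ''
            {i : Fin n | r ≤ (i : ℕ)}) = ⊤ := by
  classical
  haveI : IsNoetherianRing A := Algebra.FiniteType.isNoetherianRing k A
  haveI : IsNoetherianRing (Localization.AtPrime p) := IsLocalization.isNoetherianRing p.primeCompl _ inferInstance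
  haveI : Algebra.EssFiniteType k (Localization.AtPrime p) := Algebra.EssFiniteType.comp k A _
  rw [← compl_setOf_lt, isEtaleAt_iff_span k A n p hn]
  refine ⟨fun h => ?_, fun h => span_of_adapted k (Localization.AtPrime p) _ _ h.1 h.2⟩
  haveI := isSmoothAt_of_span k A n p hn _ h
  haveI := SmoothIffReg.regular_of_isSmoothAt (k := k) p
  obtain ⟨m, hm, ⟨b⟩⟩ := exists_basis k A p
  obtain rfl : n = m := by exact_mod_cast hn.symm.trans hm
  refine adapted_of_span k (Localization.AtPrime p) _ _ (fun i hi => ?_) h ?_ ?_
  · exact (IsLocalization.AtPrime.to_map_mem_maximal_iff (Localization.AtPrime p) p _).2 (hg i hi)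
  · exact Module.finrank_eq_card_basis (b.baseChange (ResidueField (Localization.AtPrime p)))
  · rw [card_setOf_lt (by have := tdeg_add_eq k A p hn hr; omega), finrank_cotangent A p hr]

theorem exists_D_basis (K : Type u) [Field K] [Algebra k K] [Algebra.EssFiniteType k K] :
    ∃ c : Fin (Module.finrank K Ω[K⁄k]) → K, Submodule.span K (Set.range fun i => D k K (c i)) = ⊤ := by
  obtain ⟨f, hf1, hf2, -⟩ := Submodule.exists_fun_fin_finrank_span_eq K (Set.range (D k K))
  replace hf2 := hf2.trans (span_range_derivation k K)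
  choose c hc using fun i => hf1 i
  have hcard : Module.finrank K (Submodule.span K (Set.range (D k K))) = Module.finrank K Ω[K⁄k] := by
    rw [span_range_derivation, finrank_top]
  refine ⟨c ∘ Fin.cast hcard.symm, ?_⟩
  have : (fun i => D k K ((c ∘ Fin.cast hcard.symm) i)) = f ∘ Fin.cast hcard.symm := funext fun i => hc _
  rw [this, (Fin.rightInverse_cast hcard.symm).surjective.range_comp, hf2]

/-- Existence of adapted germs. -/
theorem regular_and_separable_iff (n r : ℕ)
    (hn : FlatMor.localDim (PrimeSpectrum A) ⟨p, inferInstance⟩ = (n : WithBot ℕ∞))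
    (hr : ringKrullDim (Localization.AtPrime p) = (r : WithBot ℕ∞)) :
    (IsRegularLocalRing (Localization.AtPrime p) ∧ Algebra.IsGeometricallyReduced k p.ResidueField) ↔
      ∃ g : Fin n → Localization.AtPrime p,
        Ideal.span (g '' {i : Fin n | (i : ℕ) < r}) = IsLocalRing.maximalIdeal (Localization.AtPrime p) ∧
          Submodule.span p.ResidueField ((fun i : Fin n =>
            KaehlerDifferential.D k p.ResidueField (IsLocalRing.residue (Localization.AtPrime p) (g i))) ''
              {i : Fin n | r ≤ (i : ℕ)}) = ⊤ := by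
  classical
  haveI : IsNoetherianRing A := Algebra.FiniteType.isNoetherianRing k A
  haveI : IsNoetherianRing (Localization.AtPrime p) := IsLocalization.isNoetherianRing p.primeCompl _ inferInstance
  haveI : Algebra.EssFiniteType k p.ResidueField := Algebra.EssFiniteType.comp k A p.ResidueField
  obtain ⟨hiff, heq⟩ := geomReduced_iff_finrank_le k (A ⧸ p) p.ResidueField
  have hsum := tdeg_add_eq k A p hn hr
  constructor
  · rintro ⟨hreg, hgr⟩
    haveI := hreg
    obtain ⟨a, ha⟩ : ∃ a : Fin r → Localization.AtPrime p,
        Ideal.span (Set.range a) = maximalIdeal (Localization.AtPrime p) := by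
      have hfg : (maximalIdeal (Localization.AtPrime p)).FG := IsNoetherian.noetherian _
      obtain ⟨s, hs, hspan⟩ := Submodule.FG.exists_span_finset_card_eq_spanFinrank hfg
      have hc : s.card = r := by
        have h1 := IsRegularLocalRing.spanFinrank_maximalIdeal (R := Localization.AtPrime p)
        rw [hr] at h1
        rw [hs]
        exact_mod_cast h1
      refine ⟨fun i => (s.equivFinOfCardEq hc).symm i, ?_⟩
      rw [Set.range_comp', Equiv.range_eq_univ, Set.image_univ, Subtype.range_coe]
      exact hspan
    obtain ⟨c, hc⟩ := exists_D_basis k p.ResidueField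
    have hd : Module.finrank p.ResidueField Ω[p.ResidueField⁄k] = n - r := by
      rw [heq hgr]; omega
    refine ⟨fun i => if hi : (i : ℕ) < r then a ⟨i, hi⟩ else
      Function.surjInv residue_surjective (c ⟨(i : ℕ) - r, by omega⟩), ?_, ?_⟩
    · rw [← ha]
      congr 1
      ext y
      constructor
      · rintro ⟨i, hi, rfl⟩
        refine ⟨⟨i, hi⟩, ?_⟩
        simp only
        have hi' : (i : ℕ) < r := hi
        rw [dif_pos hi']
      · rintro ⟨j, rfl⟩
        exact ⟨⟨j, by omega⟩, j.2, dif_pos j.2⟩
    · rw [eq_top_iff, ← hc]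
      refine Submodule.span_mono ?_
      rintro _ ⟨j, rfl⟩
      refine ⟨⟨r + j, by omega⟩, Nat.le_add_right r j, ?_⟩
      simp only
      rw [dif_neg (by simp)]
      erw [Function.surjInv_eq residue_surjective]
      congr 2
      exact Fin.ext (by simp)
  · rintro ⟨g, hm, hres⟩
    have hcard : (({i : Fin n | (i : ℕ) < r} : Set (Fin n))).ncard = r := by
      rw [← Nat.card_coe_set_eq, Nat.card_eq_fintype_card, card_setOf_lt (by omega)]
    refine ⟨IsRegularLocalRing.of_spanFinrank_maximalIdeal_le _ ?_, hiff.2 ?_⟩
    · rw [← hm, hr]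
      exact_mod_cast (Submodule.spanFinrank_span_le_ncard_of_finite (Set.toFinite _)).trans
        ((Set.ncard_image_le (Set.toFinite _)).trans hcard.le)
    · rw [← finrank_top p.ResidueField Ω[p.ResidueField⁄k], ← hres]
      refine (finrank_span_le_card _).trans ?_
      rw [← Set.ncard_eq_toFinset_card']
      refine (Set.ncard_image_le (Set.toFinite _)).trans ?_
      rw [← compl_setOf_lt, Set.ncard_compl, hcard, Nat.card_eq_fintype_card, Fintype.card_fin]
      omega

end Groth.Agent.EtaleCoord5
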